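import Mathlib
import Cfsg.Agent.Lib.Y333.Final
import Cfsg.Agent.Lib.CosetEnum.IsoLin
import Cfsg.Agent.Lib.Comput.GL2
import Cfsg.Agent.Lib.E62P.Data

/-!
# Packed matrices on the `F₂`-form of the Lie algebra of `²E₆(2)`; the structure constants
-/

set_option autoImplicit false

namespace CfsgLib.E62P

open Cfsg.Lie CfsgLib.ChevInv CfsgLib.Comput CfsgLib.FiTool CfsgLib.Y333 CfsgLib.Fischer CfsgLib.ChevFold Matrix Finset
open CfsgLib.Chev hiding force force_eq allLt
open CfsgLib.CosetEnum (forceL forceL_eq)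

/-- the last `n` columns of a packed matrix -/
noncomputable def unpF (m n : ℕ) : List ℕ :=
  Nat.rec [] (fun k ih => Nat.mod (Nat.shiftRight m (Nat.mul 78 (Nat.sub 78 k))) (Nat.pow 2 78) :: ih) n

/-- the columns of a packed matrix -/
noncomputable def unp (m : ℕ) : List ℕ := unpF m 78

theorem unpF_spec (m : ℕ) {n : ℕ} (hn : n ≤ 78) : (unpF m n).length = n ∧ (∀ c ∈ unpF m n, c < 2 ^ 78) ∧
    ∀ j < n, (unpF m n).getD j 0 = m >>> ((78 - n + j + 1) * 78) % 2 ^ 78 := by
  induction n with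
  | zero => simp [unpF]
  | succ n ih =>
    obtain ⟨h1, h2, h3⟩ := ih (by omega)
    rw [show unpF m (n + 1) = m >>> (78 * (78 - n)) % 2 ^ 78 :: unpF m n from rfl]
    refine ⟨by simp [h1], List.forall_mem_cons.2 ⟨Nat.mod_lt _ (by positivity), h2⟩, fun j hj => ?_⟩
    rcases j with _ | j
    · rw [List.getD_cons_zero]; congr 2; omega
    · rw [List.getD_cons_succ, h3 j (by omega)]; congr 3; omega

/-- product of a matrix and a packed matrix -/
noncomputable def mm (M : List ℕ) (x : ℕ) : ℕ := app2 (ones 78 79) M x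

/-- product of a matrix and a vector -/
noncomputable def m1 (M : List ℕ) (x : ℕ) : ℕ := app2 (ones 78 1) M x

/-- equality of packed matrices -/
noncomputable def eqM (x y : ℕ) : Bool := Nat.beq (Nat.shiftRight x 78) (Nat.shiftRight y 78)

/-- inequality of vectors -/
noncomputable def neV (x y : ℕ) : Bool :=
  Bool.rec true false (Nat.beq (Nat.mod x (Nat.pow 2 78)) (Nat.mod y (Nat.pow 2 78)))

/-- the bits of `c` as digits -/
noncomputable def spr (c n : ℕ) : ℕ :=
  Nat.rec 0 (fun k ih => Nat.add ih (Nat.shiftLeft (Nat.mod (Nat.shiftRight c k) 2) (Nat.mul 8 k))) n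

theorem spr_eq (c n : ℕ) : spr c n = ∑ k ∈ range n, c / 2 ^ k % 2 * 256 ^ k := by
  induction n with
  | zero => rfl
  | succ n ih =>
    rw [sum_range_succ, ← ih, ← Nat.shiftRight_eq_div_pow, show 256 = 2 ^ 8 from rfl, ← pow_mul, ← Nat.shiftLeft_eq]
    rfl

theorem dec8_spr {V : Type*} [AddCommGroup V] (e : ℕ → V) (c : ℕ) : dec8 78 e (spr c 78) = dec2 78 e c 0 := by
  rw [spr_eq, dec8, dec2]
  refine sum_congr rfl fun k hk => ?_
  rw [dg_digits fun k => by omega, if_pos (mem_range.1 hk), zero_mul, zero_add, Nat.testBit_eq_decide_div_mod_eq]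
  rcases Nat.mod_two_eq_zero_or_one (c / 2 ^ k) with h | h <;> simp [h]

/-- comparison with the matrices in digit form -/
noncomputable def cvOK (f : ℕ → ℕ) (M : List ℕ) : Bool :=
  band (ok2 78 M) (allLt (fun k => Nat.beq (f (Nat.pow 256 k)) (spr (nth 0 M k) 78)) 78)

theorem cv_ok : band (allLt (fun m => band (cvOK (stp 78 MT m) (nth [] GC m))
    (eqM (mm (nth [] GC m) (mm (nth [] GC m) (idS 78))) (idS 78))) 16) (cvOK (mv 78 MH) HL) = true := by
  decide +kernel

/-- the matrix of `ad v` -/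
noncomputable def adm (v : ℕ) : ℕ := app2 1 TT v

/-- test of the structure constants -/
noncomputable def tabOK (AD : List ℕ) : Bool :=
  band (band (band (ok2 78 BT) (Nat.beq (lenL AD) 78)) (eqM (nth 0 AD 0) (mm HL (idS 78))))
    (band (allLt (fun j => force (Nat.div (nth 0 TR (Nat.succ j)) 16) fun p => force (Nat.mod (nth 0 TR (Nat.succ j)) 16)
      fun m => band (band (Nat.ble p j) (Nat.beq (nth 0 BT (Nat.succ j)) (m1 (nth [] GC m) (nth 0 BT p))))
        (eqM (nth 0 AD (Nat.succ j)) (mm (nth [] GC m) (mm (unp (nth 0 AD p)) (mm (nth [] GC m) (idS 78)))))) 77)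
    (allLt (fun k => band (Nat.beq (m1 BT (nth 0 BI k)) (Nat.pow 2 k)) (eqM (nth 0 TT k) (app2 1 AD (nth 0 BI k)))) 78))

theorem tab_ok : forceL (BT.map adm) tabOK = true := by decide +kernel

/-- Horner's rule -/
noncomputable def hqv (f : ℕ → ℕ) (l : List Bool) (x : ℕ) : ℕ :=
  List.rec 0 (fun b _ ih => force ih fun y => Nat.xor (cond b x 0) (f y)) l

/-- a polynomial with coefficients `0, 1` -/
def hq {R : Type*} [Ring R] (l : List Bool) (A : R) : R := l.foldr (fun b B => (if b then 1 else 0) + A * B) 0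

theorem hq_cons {R : Type*} [Ring R] (b : Bool) (l : List Bool) (A : R) :
    hq (b :: l) A = (if b then 1 else 0) + A * hq l A := rfl

theorem hq_conj {R : Type*} [Ring R] (l : List Bool) (A : R) (g : Rˣ) :
    g.1 * hq l A * g⁻¹.1 = hq l (g.1 * A * g⁻¹.1) := by
  induction l with
  | nil => simp [hq]
  | cons b l ih =>
    rw [hq_cons, hq_cons, ← ih]
    cases b <;> simp [mul_add, add_mul, mul_assoc]

variable {K : Type*} [Field K] (ω : Kˣ)

/-- the vector with code `x` -/
noncomputable abbrev dv (x : ℕ) : chevE6.Idx → K := dec2 78 (eB ω) x 0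

/-- the list of columns describes `A` -/
abbrev LK (M : List ℕ) (A : Matrix chevE6.Idx chevE6.Idx K) : Prop := Act2 78 (eB ω) M A

/-- the packed matrix `m` (first block ignored) describes `A` -/
def PK (m : ℕ) (A : Matrix chevE6.Idx chevE6.Idx K) : Prop := ∀ k < 78, A • eB ω k = dec2 78 (eB ω) m (k + 1)

variable {ω} {m m' x y : ℕ} {A B : Matrix chevE6.Idx chevE6.Idx K} {M : List ℕ}

theorem dv_mod (x : ℕ) : dv ω (x % 2 ^ 78) = dv ω x := sum_congr rfl fun i hi => by
  rw [Nat.testBit_mod_two_pow, zero_mul, zero_add, decide_eq_true (mem_range.1 hi), Bool.true_and]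

theorem PK.lk (h : PK ω m A) : LK ω (unp m) A :=
  have h1 := unpF_spec m le_rfl
  ⟨h1.1, h1.2.1, fun k hk => by rw [h k hk, unp, h1.2.2 k hk, ← dec2_shift, Nat.sub_self, zero_add]; exact (dv_mod _).symm⟩

theorem pk_one : PK ω (idS 78) 1 := fun k hk => by rw [dec2_idS _ hk, one_smul]

theorem PK.of_eqM (h : PK ω m' A) (e : eqM m m' = true) : PK ω m A := fun k hk => by
  have e1 : m >>> 78 = m' >>> 78 := Nat.eq_of_beq_eq_true e
  rw [h k hk, ← dec2_shift, ← dec2_shift _ _ m, Nat.succ_mul, add_comm, Nat.shiftRight_add, Nat.shiftRight_add, e1]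

variable [CharP K 2]

theorem LK.mm (h : LK ω M A) (h' : PK ω m B) : PK ω (mm M m) (A * B) := fun k hk => by
  rw [E62P.mm, dec2_app2 add_self_vec' (by norm_num) h _ (by omega), ← h' k hk, mul_smul]

theorem LK.m1 (h : LK ω M A) (x : ℕ) : dv ω (m1 M x) = A • dv ω x :=
  dec2_app2 add_self_vec' (by norm_num) h _ one_pos

theorem PK.xor (h : PK ω m A) (h' : PK ω m' B) : PK ω (m ^^^ m') (A + B) := fun k hk => by
  rw [dec2_xor add_self_vec', add_smul, h k hk, h' k hk]

theorem pk_app2L {T : List ℕ} {As : ℕ → Matrix chevE6.Idx chevE6.Idx K}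
    (hT : ∀ k < T.length, PK ω (T.getD k 0) (As k)) (v : ℕ) (h : PK ω m A) :
    PK ω (app2L 1 T v m) (A + ∑ k ∈ range T.length, if v.testBit k then As k else 0) := by
  induction T generalizing As v m A with
  | nil => simpa [app2L] using h
  | cons c T ih =>
    rw [show app2L 1 (c :: T) v m = app2L 1 T (v >>> 1) (m ^^^ (v &&& 1) * c) from force_eq _ _, List.length_cons,
      sum_range_succ', add_comm (∑ k ∈ _, _), ← add_assoc]
    simp only [Nat.testBit_succ, ← Nat.shiftRight_one]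
    refine ih (fun k hk => hT (k + 1) (Nat.succ_lt_succ hk)) _ (h.xor ?_)
    rw [Nat.and_one_is_mod, Nat.testBit_zero]
    rcases Nat.mod_two_eq_zero_or_one v with e | e <;> simp only [e, zero_mul, one_mul]
    · intro k _; simp [dec2_zero]
    · exact hT 0 (Nat.succ_pos _)

theorem pk_sel {T : List ℕ} {b : ℕ → chevE6.Idx → K} (hl : T.length = 78)
    (hT : ∀ k < 78, PK ω (T.getD k 0) (ad chevE6 K (b k))) (v : ℕ) :
    PK ω (app2 1 T v) (ad chevE6 K (dec2 78 b v 0)) := by
  have := pk_app2L (hl ▸ hT) v (m := 0) (A := 0) fun k _ => by simp [dec2_zero]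
  rw [zero_add, hl] at this
  simpa only [app2, dec2, map_sum, apply_ite (ad chevE6 K), map_zero, zero_mul, zero_add] using this

theorem dec2_cs {cs : List ℕ} (h : ∀ c ∈ cs, c < 2 ^ 78) (x : ℕ) {w c : ℕ} (hc : c < w) :
    dec2 78 (eB ω) (app2 (ones 78 w) cs x) c = dec2 cs.length (fun i => dv ω (cs.getD i 0)) (x >>> (c * 78)) 0 := by
  rw [app2, ones_eq (by norm_num), dec2_app2L add_self_vec' _ h x 0 hc, dec2_zero, zero_add, dec2]
  simp only [Nat.testBit_shiftRight, zero_mul, zero_add]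

theorem dec2_hqv {f : ℕ → ℕ} {c : ℕ} (hf : ∀ x, dec2 78 (eB ω) (f x) c = A • dec2 78 (eB ω) x c) (l : List Bool) (x : ℕ) :
    dec2 78 (eB ω) (hqv f l x) c = hq l A • dec2 78 (eB ω) x c := by
  induction l with
  | nil => simp [hqv, hq, dec2_zero]
  | cons b l ih =>
    rw [show hqv f (b :: l) x = cond b x 0 ^^^ f (hqv f l x) from
      force_eq (hqv f l x) fun y => Nat.xor (cond b x 0) (f y), dec2_xor add_self_vec', hf,
      ih, hq_cons, add_smul, mul_smul]
    cases b <;> simp [dec2_zero]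

theorem LK.hqM (h : LK ω M A) (h' : PK ω m B) (l : List Bool) : PK ω (hqv (E62P.mm M) l m) (hq l A * B) :=
  fun k hk => by
    rw [dec2_hqv (f := E62P.mm M) fun x => dec2_app2 add_self_vec' (by norm_num) h _ (by omega), ← h' k hk, mul_smul]

theorem LK.hq1 (h : LK ω M A) (l : List Bool) (x : ℕ) : dv ω (hqv (E62P.m1 M) l x) = hq l A • dv ω x :=
  dec2_hqv h.m1 l x

variable (hω : ω.1 ^ 2 + ω.1 + 1 = 0)
include hω

theorem PK.eq (h : PK ω m A) (h' : PK ω m' B) (e : eqM m m' = true) : A = B := by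
  have := span_eB hω (LinearMap.eqLocus A.mulVecLin B.mulVecLin) fun k hk => (h k hk).trans (h'.of_eqM e k hk).symm
  exact ext_iff_mulVec.2 fun v => this.ge trivial

theorem dv_ne (h : neV x y = true) : dv ω x ≠ dv ω y := fun e => by
  have h1 : LinearIndependent K fun k : Fin 78 => eB ω k := linearIndependent_of_top_le_span_of_card_eq_finrank
    (span_eB hω _ fun k hk => Submodule.subset_span (Set.mem_range_self (⟨k, hk⟩ : Fin 78))).ge (by simp; rfl)
  have h2 := Fintype.linearIndependent_iffₛ.1 h1 (fun k => if x.testBit k then 1 else 0)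
    (fun k => if y.testBit k then 1 else 0) (by simpa [dv, dec2, Finset.sum_range] using e)
  have h3 : x % 2 ^ 78 = y % 2 ^ 78 := Nat.eq_of_testBit_eq fun i => by
    simp only [Nat.testBit_mod_two_pow]
    by_cases hi : i < 78
    · have := h2 ⟨i, hi⟩
      cases hx : x.testBit i <;> cases hy : y.testBit i <;> simp_all
    · simp [hi]
  rw [neV, show Nat.mod x (Nat.pow 2 78) = Nat.mod y (Nat.pow 2 78) from h3, Nat.beq_refl] at h
  exact Bool.noConfusion h

omit hω [CharP K 2] in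
theorem lk_of_cv {f : ℕ → ℕ} (h : cvOK f M = true) (hf : ∀ k < 78, dec8 78 (eB ω) (f (256 ^ k)) = A • eB ω k) :
    LK ω M A := by
  obtain ⟨h1, h2⟩ := band_eq_true.1 h
  refine ⟨(ok2_sound h1).1, (ok2_sound h1).2, fun k hk => ?_⟩
  rw [← hf k hk, show f (256 ^ k) = _ from Nat.eq_of_beq_eq_true (allLt_sound h2 k hk), dec8_spr, nth_eq_getD]

theorem lk_gT {m : ℕ} (hm : m < 16) : LK ω (nth [] GC m) (gT ω m).1 :=
  lk_of_cv (band_eq_true.1 (allLt_sound (band_eq_true.1 cv_ok).1 m hm)).1 fun k hk =>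
    (mod_gT hω m _ (cl_pow hk).1).2.trans (by rw [dec8_pow _ hk]; rfl)

omit hω [CharP K 2] in
theorem gT_of_le {m : ℕ} (hm : 16 ≤ m) : gT ω m = 1 := by rw [gT, nth_of_le _ tw hm]; rfl

theorem invol_gT : Invol (gT ω) := fun m => by
  by_cases hm : m < 16
  · have h := lk_gT hω hm
    have := (h.mm (h.mm pk_one)).eq hω pk_one (band_eq_true.1 (allLt_sound (band_eq_true.1 cv_ok).1 m hm)).2
    exact Units.ext (by rwa [mul_one] at this)
  · rw [gT_of_le (not_lt.1 hm), one_mul]

theorem dec2_actL {w c : ℕ} (hc : c < w) (l : List ℕ) (x : ℕ) :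
    dec2 78 (eB ω) (actL (stepL (app2 (ones 78 w)) GC) l x) c = (evL (gT ω) l).1 • dec2 78 (eB ω) x c :=
  ((lin2 _ (d := 78) add_self_vec' (by norm_num) (eB ω) w).st_actL (g := gT ω) (ML := GC) ⟨fun m hm => by
    rw [← List.getD_eq_getElem _ [] hm, ← nth_eq_getD]; exact lk_gT hω hm, fun _ => gT_of_le⟩ (y := x) trivial l).2 c hc

theorem pk_adm (v : ℕ) : PK ω (adm v) (ad chevE6 K (dv ω v)) := by
  have h := tab_ok
  rw [forceL_eq] at h
  generalize BT.map adm = AD at h
  simp only [tabOK, band_eq_true] at h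
  obtain ⟨⟨⟨h1, h2⟩, h3⟩, h4, h5⟩ := h
  have h6 : ∀ j < 78, PK ω (AD.getD j 0) (ad chevE6 K (dv ω (BT.getD j 0))) := fun j => by
    induction j using Nat.strong_induction_on with
    | _ j ih =>
      intro hj
      rw [← nth_eq_getD, ← nth_eq_getD]
      rcases j with _ | j
      · have hh : dv ω (nth 0 BT 0) = hV chevE6 K 1 := (dec2_two_pow (eB ω) (show 74 < 78 by norm_num)).trans
          ((dec2_two_pow (eW chevE6 ω.1) (show 146 < 156 by norm_num)).trans
            (by rw [eW, pow_zero, one_smul]; exact vec_hV 1))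
        rw [hh, ad_hV (by decide), ← mul_one (adH _ _ _)]
        exact ((lk_of_cv (band_eq_true.1 cv_ok).2 fun k hk => (act8_H.2 k hk).symm).mm pk_one).of_eqM h3
      · have h7 := allLt_sound h4 j (by omega)
        simp only [force_eq, band_eq_true] at h7
        obtain ⟨⟨h8, h9⟩, h10⟩ := h7
        have h11 := Nat.le_of_ble_eq_true h8
        have hg := lk_gT hω (Nat.mod_lt (nth 0 TR (j + 1)) (show 0 < 16 by norm_num))
        have h12 := ih _ (Nat.lt_succ_of_le h11) (h11.trans_lt (by omega))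
        rw [← nth_eq_getD, ← nth_eq_getD] at h12
        have h13 := (hg.mm (h12.lk.mm (hg.mm pk_one))).of_eqM h10
        rw [← mul_assoc, isAut_of_mem_group ((Twist.gen_le fun w _ => wordU_mem_group w : twistedE6 K 2 ≤ _)
          (gT_mem hω _)), mul_one, mul_assoc, ← Units.val_mul, invol_gT hω, Units.val_one, mul_one] at h13
        exact (congrArg (dv ω) (Nat.eq_of_beq_eq_true h9)).trans (hg.m1 _) ▸ h13
  refine pk_sel (by decide +kernel) (fun k hk => ?_) v
  obtain ⟨h7, h8⟩ := band_eq_true.1 (allLt_sound h5 k hk)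
  have h9 := (pk_sel ((lenL_eq _).symm.trans (Nat.eq_of_beq_eq_true h2)) h6 (nth 0 BI k)).of_eqM h8
  have h10 := dec2_cs (ω := ω) (ok2_sound h1).2 (nth 0 BI k) one_pos
  rw [(ok2_sound h1).1, zero_mul, Nat.shiftRight_zero, show app2 _ _ _ = 2 ^ k from Nat.eq_of_beq_eq_true h7,
    dec2_two_pow _ hk] at h10
  rwa [← h10, nth_eq_getD] at h9

theorem exists_pk {g : GL chevE6.Idx K} [Fintype K] (hK : Fintype.card K = 4) (hg : g ∈ twistedE6 K 2) :
    ∃ m, PK ω m g.1 := by
  let S : Submonoid (GL chevE6.Idx K) := ⟨⟨{g | ∃ m, PK ω m g.1}, fun ⟨_, h⟩ ⟨_, h'⟩ => ⟨_, h.lk.mm h'⟩⟩, _, pk_one⟩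
  let H : Subgroup (GL chevE6.Idx K) := ⟨S, fun {x} hx => Submonoid.powers_le.2 hx
    ((isOfFinOrder_of_finite x).mem_powers_iff_mem_zpowers.2 (inv_mem (Subgroup.mem_zpowers x)))⟩
  refine (show Mon.Y.gen 3 3 3 (ndY ω) ≤ H from Mon.Y.gen_le.2 fun u _ => ?_) ((gen_ndY hω hK).ge hg)
  exact ⟨actL (stepL (app2 (ones 78 79)) GC) [nth 0 nW (ix u)] (idS 78), fun k hk => by
    rw [dec2_actL hω (by omega), dec2_idS _ hk, evL_one]; rfl⟩

end CfsgLib.E62P
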