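import Mathlib
import Cfsg.Agent.Lib.E62P.Lin

/-!
# No `p`-local subgroup of `²E₆(2)` with `p > 5` is maximal
-/

set_option autoImplicit false

namespace CfsgLib.E62P

open Cfsg.Lie CfsgLib.Comput CfsgLib.Y333 CfsgLib.Fischer CfsgLib.ChevFold Matrix Subgroup
open CfsgLib.Chev hiding force force_eq allLt
open CfsgLib.CosetEnum (forceL forceL_eq)

theorem not_coatom {G X : Type*} [Group G] [IsSimpleGroup G] (a : G → X → X) (a1 : ∀ x, a 1 x = x)
    (am : ∀ g h x, a (g * h) x = a g (a h x)) {N : Subgroup G} {S : Set X} (h1 : ∀ g ∈ N, ∀ s ∈ S, a g s ∈ S) {y g : G}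
    (hy : ∀ s ∈ S, a y s = s) (hn : y ∉ N) {s : X} (hs : s ∈ S) (hg : a g s ≠ s) : ¬IsCoatom N := fun hc => by
  let D : Subgroup G := ⟨⟨⟨{d | ∀ s ∈ S, a d s = s}, fun h h' s hs => by rw [am, h' s hs, h s hs]⟩, fun s _ => a1 s⟩,
    fun {d} h s hs => by rw [← h s hs, ← am, inv_mul_cancel, a1, h s hs]⟩
  have h2 : ∀ g ∈ N, ∀ d ∈ D, g * d * g⁻¹ ∈ D := fun g hg d hd s hs => by
    rw [am, am, hd _ (h1 _ (inv_mem hg) s hs), ← am, mul_inv_cancel, a1]
  have h3 : N ≤ normalizer (D : Set G) := fun g hg d => ⟨h2 g hg d, fun h => by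
    simpa [mul_assoc] using h2 _ (inv_mem hg) _ h⟩
  rcases (normalizer_eq_top_iff.1 (hc.2 _ (lt_of_le_of_ne h3 fun e => hn (e ▸ le_normalizer hy)))).eq_bot_or_eq_top
    with e | e
  · exact hn (mem_bot.1 (e ▸ hy : y ∈ (⊥ : Subgroup G)) ▸ N.one_mem)
  · exact hg ((e.ge (mem_top g) : g ∈ D) s hs)

/-- the packed matrix of a product of words -/
noncomputable def wm (l : List ℕ) : ℕ := actL (stepL (app2 (ones 78 79)) GC) l (idS 78)

/-- words applied to a vector -/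
noncomputable def wv (l : List ℕ) (x : ℕ) : ℕ := actL (stepL (app2 (ones 78 1)) GC) l x

/-- a test vector -/
def v0 : ℕ := 0x2b7e151628aed2a6abf7

/-- the common part of the tests -/
noncomputable def Cert.ok (c : Cert) : Bool :=
  forceL (unp (wm [c.w1])) fun X => forceL (unp (wm [c.w2])) fun Y =>
    band (band (band (allL (fun v => Nat.ble (Nat.succ v) (Nat.pow 2 78)) c.cs) (Nat.beq (Nat.mod c.p 2) 1))
      (eqM (hqv (mm X) (List.replicate c.p true) (hqv (mm Y) (List.replicate c.p true) (idS 78))) (mm c.cs c.R)))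
    (band (band (eqM (mm X (mm Y (idS 78))) (mm Y (mm X (idS 78))))
      (neV (wv [c.wy, c.w1, revW c.wy, c.w1] v0) (wv [c.w1, c.wy, c.w1, revW c.wy] v0)))
    (band (band (eqM (iterN (mm X) c.p (idS 78)) (idS 78)) (eqM (iterN (mm Y) c.p (idS 78)) (idS 78)))
      (allL (fun a => force (m1 c.cs a) fun v => band (Nat.beq (m1 X v) v) (Nat.beq (m1 Y v) v)) [c.a0, c.a1])))

/-- `y` fixes the derived algebra of the fixed algebra -/
noncomputable def Cert.ok2 (c : Cert) : Bool :=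
  band c.ok (forceL (unp (wm [c.wy])) fun Y => force (mm c.cs c.R) fun E =>
    band (allLt (fun i => force (mm (unp (adm (nth 0 c.cs i))) E) fun Z => eqM (mm Y Z) Z) (lenL c.cs))
      (force (m1 (unp (adm (m1 c.cs c.a0))) (m1 c.cs c.a1)) fun v => neV (wv [Nat.succ c.m] v) v))

/-- `y` commutes with the values of a polynomial on the fixed algebra -/
noncomputable def Cert.ok3 (c : Cert) (b : Bool) : Bool :=
  band (band c.ok (Nat.beq (lenL c.cs) 6)) (force (wm [c.wy]) fun Y => forceL (unp Y) fun LY =>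
    band (allLt (fun a => forceL (unp (adm (m1 c.cs a))) fun A =>
      cond (band b (force (hqv (m1 A) c.l v0) fun v => neV (hqv (m1 A) c.l v) v)) true
        (force (hqv (mm A) c.l (idS 78)) fun B => eqM (mm LY B) (mm (unp B) Y))) 64)
    (forceL (unp (adm (m1 c.cs c.a0))) fun A => force (hqv (mm A) c.l (idS 78)) fun B =>
      band (cond b (eqM (mm (unp B) B) B) true)
        (neV (wv [Nat.succ c.m] (m1 (unp B) v0)) (m1 (unp B) (wv [Nat.succ c.m] v0)))))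

theorem ok11 : c11.ok2 = true := by decide +kernel
theorem ok7a : c7a.ok2 = true := by decide +kernel
theorem ok7b : c7b.ok2 = true := by decide +kernel
theorem ok13 : c13.ok3 false = true := by decide +kernel
theorem ok17 : c17.ok3 false = true := by decide +kernel
theorem ok49 : c49.ok3 false = true := by decide +kernel
theorem ok19 : c19.ok3 true = true := by decide +kernel

theorem cj_ok : band (neV (wv [c7b.w1] (nth 0 c7a.cs 17)) (nth 0 c7a.cs 17))
    (band (Nat.beq (wv [c7a.w1] (nth 0 c7a.cs 17)) (nth 0 c7a.cs 17))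
    (allLt (fun k => eqM (wm ((nth (0, 0, 0) CJ k).1 :: c7a.w1 :: List.replicate k c7b.w1))
      (iterN (mm (unp (wm [cond (Nat.beq (nth (0, 0, 0) CJ k).2.1 0) c7a.w1 c7b.w1]))) (nth (0, 0, 0) CJ k).2.2
        (wm [(nth (0, 0, 0) CJ k).1]))) 7)) = true := by decide +kernel

variable {K : Type*} [Field K] {ω : Kˣ} [CharP K 2] (hω : ω.1 ^ 2 + ω.1 + 1 = 0)

/-- the value of a word -/
noncomputable def xx (w : ℕ) : twistedE6 K 2 := ⟨ev (gT ω) w, ev_mem_of_all (gT_mem hω) w⟩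

/-- the subgroup of a certificate -/
noncomputable abbrev Cert.P (c : Cert) : Subgroup (twistedE6 K 2) := closure {xx hω c.w1, xx hω c.w2}

variable (ω) in
/-- the fixed points on the `F₂`-form -/
def C0 (P : Subgroup (twistedE6 K 2)) : Set (chevE6.Idx → K) := {v | (∃ x, v = dv ω x) ∧ ∀ u ∈ P, u.1.1 • v = v}

variable (ω) in
/-- combination of the vectors of a certificate -/
noncomputable abbrev Cert.cv (c : Cert) (a : ℕ) : chevE6.Idx → K := dec2 c.cs.length (fun i => dv ω (c.cs.getD i 0)) a 0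

include hω

theorem pk_wm (l : List ℕ) : PK ω (wm l) (evL (gT ω) l).1 := fun k hk => by
  rw [wm, dec2_actL hω (by omega), dec2_idS _ hk]

theorem pk_xx (w : ℕ) : PK ω (wm [w]) (xx hω w).1.1 := by
  have := pk_wm hω [w]
  rwa [evL_one] at this

theorem dv_wv (l : List ℕ) (x : ℕ) : dv ω (wv l x) = (evL (gT ω) l).1 • dv ω x := dec2_actL hω one_pos l x

omit hω in
theorem LK.iter {M : List ℕ} {m : ℕ} {A B : Matrix chevE6.Idx chevE6.Idx K} (h : LK ω M A) (h' : PK ω m B) (n : ℕ) :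
    PK ω (iterN (E62P.mm M) n m) (A ^ n * B) := fun k hk => by
  rw [mul_smul, h' k hk]; exact (dec2_iterN add_self_vec' (by norm_num) h n m (by omega)).symm

omit hω in
theorem hq_fix {A : Matrix chevE6.Idx chevE6.Idx K} {v : chevE6.Idx → K} (h : A • v = v) {p : ℕ} (hp : p % 2 = 1) :
    hq (List.replicate p true) A • v = v := by
  have : ∀ n, hq (List.replicate n true) A • v = n • v := fun n => by
    induction n with
    | zero => simp [hq]
    | succ n ih => rw [List.replicate_succ, hq_cons, add_smul, mul_smul, ih, smul_comm, h, succ_nsmul']; simp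
  rw [this, nsmul_eq_mod_nsmul _ ((two_nsmul _).trans (add_self_vec' v)), hp, one_nsmul]

theorem smul_mem_C0 [Fintype K] (hK : Fintype.card K = 4) {P : Subgroup (twistedE6 K 2)} {g : twistedE6 K 2}
    (hg : g ∈ normalizer (P : Set (twistedE6 K 2))) {v : chevE6.Idx → K} (hv : v ∈ C0 ω P) : g.1.1 • v ∈ C0 ω P := by
  obtain ⟨⟨x, rfl⟩, h⟩ := hv
  obtain ⟨m, hm⟩ := exists_pk hω hK g.2
  refine ⟨⟨_, (hm.lk.m1 x).symm⟩, fun u hu => ?_⟩
  have := h _ ((mem_normalizer_iff''.1 hg u).1 hu)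
  conv_rhs => rw [← this]
  rw [← mul_smul, ← mul_smul]
  congr 1
  simp [← mul_assoc]

omit hω [CharP K 2] in
theorem aut (g : twistedE6 K 2) : IsAut g.1.1 :=
  isAut_of_mem_group ((Twist.gen_le fun w _ => wordU_mem_group w : twistedE6 K 2 ≤ _) g.2)

/-- the meaning of the common tests -/
structure Cert.Ok (c : Cert) : Prop where
  lt : ∀ v ∈ c.cs, v < 2 ^ 78
  proj : ∃ E, PK ω (mm c.cs c.R) E ∧ ∀ v ∈ C0 ω (c.P hω), E • v = v
  comm : Commute (xx hω c.w1) (xx hω c.w2)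
  notMem : xx hω c.wy ∉ normalizer (c.P hω : Set (twistedE6 K 2))
  ne : xx hω c.w1 ≠ 1
  pow : xx hω c.w1 ^ c.p = 1 ∧ xx hω c.w2 ^ c.p = 1
  mem : dv ω (m1 c.cs c.a0) ∈ C0 ω (c.P hω) ∧ dv ω (m1 c.cs c.a1) ∈ C0 ω (c.P hω)

theorem Cert.sound {c : Cert} (h : c.ok = true) : c.Ok hω := by
  simp only [Cert.ok, forceL_eq, band_eq_true] at h
  obtain ⟨⟨⟨h1, h2⟩, h3⟩, ⟨h4, h5⟩, ⟨h6, h7⟩, h8⟩ := h
  have x1 := (pk_xx hω c.w1).lk
  have x2 := (pk_xx hω c.w2).lk
  have hc : Commute (xx hω c.w1) (xx hω c.w2) := Subtype.ext (Units.ext (by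
    simpa using (x1.mm (x2.mm pk_one)).eq hω (x2.mm (x1.mm pk_one)) h4))
  have hn : ¬Commute (xx hω c.wy * xx hω c.w1 * (xx hω c.wy)⁻¹) (xx hω c.w1) := fun e => dv_ne hω h5 (by
    have := congrArg Subtype.val e.eq
    simp only [dv_wv hω, evL_cons, evL_nil, mul_one, ev_revW (invol_gT hω)]
    exact congrArg (fun g : GL chevE6.Idx K => g.1 • dv ω v0) (by simpa [xx, mul_assoc] using this))
  have hf : ∀ a ∈ [c.a0, c.a1], dv ω (m1 c.cs a) ∈ C0 ω (c.P hω) := fun a ha => by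
    have h9 := allL_sound h8 a ha
    rw [force_eq, band_eq_true] at h9
    refine ⟨⟨_, rfl⟩, (closure_le (MulAction.stabilizer _ _)).2 ?_⟩
    rintro _ (rfl | rfl)
    exacts [(x1.m1 _).symm.trans (congrArg _ (Nat.eq_of_beq_eq_true h9.1)),
      (x2.m1 _).symm.trans (congrArg _ (Nat.eq_of_beq_eq_true h9.2))]
  refine ⟨fun v hv => Nat.le_of_ble_eq_true (allL_sound h1 v hv), ⟨_, (x1.hqM (x2.hqM pk_one _) _).of_eqM
    (Nat.beq_eq.mpr (Nat.eq_of_beq_eq_true h3).symm), fun v hv => ?_⟩, hc, fun e => hn ?_,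
    fun e => hn (e ▸ Commute.one_right _), ⟨Subtype.ext (Units.ext ?_), Subtype.ext (Units.ext ?_)⟩,
    hf _ (by simp), hf _ (by simp)⟩
  · rw [mul_one, mul_smul, hq_fix (hv.2 _ (subset_closure (by simp))) (Nat.eq_of_beq_eq_true h2),
      hq_fix (hv.2 _ (subset_closure (by simp))) (Nat.eq_of_beq_eq_true h2)]
  · refine (mem_centralizer_singleton_iff.1 ((closure_le (centralizer {xx hω c.w1})).2 ?_
      ((mem_normalizer_iff.1 e _).1 (subset_closure (Or.inl rfl)))) :)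
    rintro _ (rfl | rfl)
    exacts [mem_centralizer_singleton_iff.2 rfl, mem_centralizer_singleton_iff.2 hc.symm]
  · simpa using (x1.iter pk_one _).eq hω pk_one h6
  · simpa using (x2.iter pk_one _).eq hω pk_one h7

theorem Cert.Ok.exists_cv {c : Cert} (h : c.Ok hω) {v : chevE6.Idx → K} (hv : v ∈ C0 ω (c.P hω)) :
    ∃ a < 2 ^ c.cs.length, v = c.cv ω a := by
  obtain ⟨E, h1, h2⟩ := h.proj
  let U : AddSubmonoid (chevE6.Idx → K) := ⟨⟨Set.range (c.cv ω), by
    rintro _ _ ⟨a, rfl⟩ ⟨b, rfl⟩; exact ⟨_, dec2_xor add_self_vec' _ _ a b 0⟩⟩, 0, dec2_zero _ _ _⟩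
  obtain ⟨a, ha⟩ : v ∈ U := by
    rw [← h2 v hv]
    obtain ⟨⟨x, rfl⟩, -⟩ := hv
    rw [dv, dec2, Finset.smul_sum]
    refine U.sum_mem fun k hk => ?_
    split_ifs
    · exact ⟨_, ((h1 k (Finset.mem_range.1 hk)).trans (dec2_cs h.lt _ (Nat.succ_lt_succ (Finset.mem_range.1 hk)))).symm⟩
    · rw [smul_zero]; exact U.zero_mem
  refine ⟨a % _, Nat.mod_lt _ (by positivity), ha.symm.trans (Finset.sum_congr rfl fun i hi => ?_)⟩
  rw [Nat.testBit_mod_two_pow, zero_mul, zero_add, decide_eq_true (Finset.mem_range.1 hi), Bool.true_and]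

variable [Fintype K] (hK : Fintype.card K = 4)
include hK

theorem Cert.sound2 {c : Cert} (h : c.ok2 = true) :
    c.Ok hω ∧ ¬IsCoatom (normalizer (c.P hω : Set (twistedE6 K 2))) := by
  simp only [Cert.ok2, forceL_eq, force_eq, band_eq_true] at h
  obtain ⟨h0, h1, h2⟩ := h
  have h := Cert.sound hω h0
  have := simpleT hK
  refine ⟨h, not_coatom (fun g v => g.1.1 • v) (fun _ => one_smul _ _) (fun _ _ _ => mul_smul _ _ _)
    (S := {s | ∃ u ∈ C0 ω (c.P hω), ∃ v ∈ C0 ω (c.P hω), s = ad chevE6 K u • v}) ?_ ?_ h.notMem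
    ⟨_, h.mem.1, _, h.mem.2, rfl⟩ (g := xx hω (c.m + 1)) ?_⟩
  · rintro g hg _ ⟨u, hu, v, hv, rfl⟩
    exact ⟨_, smul_mem_C0 hω hK hg hu, _, smul_mem_C0 hω hK hg hv, (aut g).bracket u v⟩
  · rintro _ ⟨u, hu, v, hv, rfl⟩
    obtain ⟨a, -, rfl⟩ := h.exists_cv hω hu
    obtain ⟨E, h3, h4⟩ := h.proj
    rw [← h4 v hv, Cert.cv, dec2, map_sum, Finset.sum_smul, Finset.smul_sum]
    refine Finset.sum_congr rfl fun i hi => ?_
    split_ifs
    · have h5 := (pk_adm hω (nth 0 c.cs i)).lk.mm h3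
      have h6 := allLt_sound h1 i ((Finset.mem_range.1 hi).trans_eq (lenL_eq _).symm)
      rw [← nth_eq_getD, ← mul_smul (ad _ _ _), ← mul_smul, ((pk_xx hω c.wy).lk.mm h5).eq hω h5 h6]
    · simp
  · have := dv_ne hω h2
    rwa [dv_wv hω, evL_one, (pk_adm hω _).lk.m1] at this

theorem Cert.sound3 {c : Cert} {b : Bool} (h : c.ok3 b = true) :
    c.Ok hω ∧ ¬IsCoatom (normalizer (c.P hω : Set (twistedE6 K 2))) := by
  simp only [Cert.ok3, forceL_eq, force_eq, band_eq_true] at h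
  obtain ⟨⟨h0, hl⟩, h1, h2, h3⟩ := h
  have h := Cert.sound hω h0
  have := simpleT hK
  have h4 := fun v => (pk_adm hω v).lk.hqM pk_one c.l
  simp only [mul_one] at h4
  refine ⟨h, not_coatom (fun g B => g.1.1 * B * g.1⁻¹.1) (fun _ => by simp) (fun _ _ _ => by simp [mul_assoc])
    (S := {s | (∃ u ∈ C0 ω (c.P hω), s = hq c.l (ad chevE6 K u)) ∧ (b = true → s * s = s)}) ?_ ?_ h.notMem
    ⟨⟨_, h.mem.1, rfl⟩, ?_⟩ (g := xx hω (c.m + 1)) fun e => ?_⟩
  · rintro g hg _ ⟨⟨u, hu, rfl⟩, hb⟩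
    refine ⟨⟨_, smul_mem_C0 hω hK hg hu, ?_⟩, fun e => ?_⟩
    · rw [hq_conj, aut g, Units.mul_inv_cancel_right]; rfl
    · conv_rhs => rw [← hb e]
      simp [mul_assoc]
  · rintro _ ⟨⟨u, hu, rfl⟩, hb⟩
    obtain ⟨a, ha, rfl⟩ := h.exists_cv hω hu
    have h5 := allLt_sound h1 a (by rwa [← lenL_eq, Nat.eq_of_beq_eq_true hl] at ha)
    have h6 : c.cv ω a = dv ω (m1 c.cs a) := by rw [dv, m1, dec2_cs h.lt a one_pos, zero_mul, Nat.shiftRight_zero]
    rw [h6] at hb ⊢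
    rcases Bool.eq_false_or_eq_true (band b _) with e | e <;> rw [e] at h5
    · obtain ⟨e1, e2⟩ := band_eq_true.1 e
      refine absurd ?_ (dv_ne hω e2)
      rw [(pk_adm hω _).lk.hq1, (pk_adm hω _).lk.hq1, ← mul_smul, hb e1]
    · rw [((pk_xx hω c.wy).lk.mm (h4 _)).eq hω ((h4 _).lk.mm (pk_xx hω c.wy)) h5, Units.mul_inv_cancel_right]
  · rintro rfl
    exact ((h4 _).lk.mm (h4 _)).eq hω (h4 _) h2
  · refine dv_ne hω h3 ?_
    rw [dv_wv hω, (h4 _).lk.m1, (h4 _).lk.m1, dv_wv hω, evL_one, ← mul_smul, ← mul_smul]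
    exact congrArg (· • dv ω v0) ((Units.mul_inv_eq_iff_eq_mul _).1 e)

omit hω hK [CharP K 2] [Fintype K] in
theorem coatom_conj {G : Type*} [Group G] {P : Subgroup G} (g : G) (h : IsCoatom (normalizer (P : Set G))) :
    IsCoatom (normalizer (P.map (MulAut.conj g).toMonoidHom : Set G)) := by
  rw [← map_equiv_normalizer_eq]
  exact ((MulAut.conj g).mapSubgroup.isCoatom_iff _).2 h

omit hω hK [CharP K 2] [Fintype K] in
theorem eq_of_le {G : Type*} [Group G] {p : ℕ} (hp : p.Prime) {x : G} (hx : x ^ p = 1) {P : Subgroup G} (h1 : P ≠ ⊥)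
    (h : P ≤ zpowers x) : P = closure {x, 1} := by
  have := Fact.mk hp
  have h0 : x ≠ 1 := by rintro rfl; exact h1 (by simpa using h)
  have h2 : Nat.card (zpowers x) = p := (Nat.card_zpowers x).trans (orderOf_eq_prime hx h0)
  have : Finite (zpowers x) := Nat.finite_of_card_ne_zero (h2 ▸ hp.ne_zero)
  rw [Set.pair_comm, closure_insert_one, ← zpowers_eq_closure]
  rcases (Nat.dvd_prime hp).1 (h2 ▸ card_dvd_of_le h) with e | e
  · exact absurd (card_eq_one.1 e) h1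
  · exact eq_of_le_of_card_ge h (h2.trans e.symm).le

omit hω hK [CharP K 2] [Fintype K] in
theorem exists_conj_le {G : Type*} [Group G] [Finite G] {p : ℕ} [Fact p.Prime] {P S : Subgroup G} (hP : IsPGroup p P)
    (hS : Nat.card S = p ^ (Nat.card G).factorization p) : ∃ g : G, P.map (MulAut.conj g).toMonoidHom ≤ S := by
  obtain ⟨Q, hQ⟩ := hP.exists_le_sylow
  obtain ⟨g, hg⟩ := MulAction.exists_smul_eq G Q (Sylow.ofCard S hS)
  exact ⟨g, (map_mono hQ).trans (congrArg Sylow.toSubgroup hg).le⟩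

omit hω [CharP K 2] in
theorem fac (p : ℕ) : (Nat.card (twistedE6 K 2)).factorization p = (Nat.primeFactorsList 76532479683774853939200).count p := by
  rw [cardT hK, Nat.primeFactorsList_count_eq]

omit hω in
theorem main (p : ℕ) (hp : p.Prime) (h5 : 5 < p) (P : Subgroup (twistedE6 K 2)) (hP : IsPGroup p P) (hP1 : P ≠ ⊥) :
    ¬IsCoatom (normalizer (P : Set (twistedE6 K 2))) := fun hc => by
  have := Fact.mk hp
  obtain ⟨-, ω, hω⟩ := exists_units hK
  have hne : ∀ {P : Subgroup (twistedE6 K 2)} (g : twistedE6 K 2), P ≠ ⊥ → P.map (MulAut.conj g).toMonoidHom ≠ ⊥ :=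
    fun g h e => h ((map_eq_bot_iff_of_injective _ (MulAut.conj g).injective).1 e)
  have x0 : xx hω 0 = 1 := rfl
  have key : ∀ c : Cert, c.p = p → c.w2 = 0 → (c.Ok hω ∧ ¬IsCoatom (normalizer (c.P hω : Set (twistedE6 K 2)))) →
      ∀ P : Subgroup (twistedE6 K 2), P ≠ ⊥ → IsCoatom (normalizer (P : Set (twistedE6 K 2))) →
      ∀ g, ¬P.map (MulAut.conj g).toMonoidHom ≤ zpowers (xx hω c.w1) := fun c e1 e2 h P h1 h2 g h3 => by
    have := coatom_conj g h2
    rw [eq_of_le hp (e1 ▸ h.1.pow.1) (hne g h1) h3, ← x0, ← e2] at this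
    exact h.2 this
  have key' : ∀ c : Cert, c.p = p → c.w2 = 0 → (c.Ok hω ∧ ¬IsCoatom (normalizer (c.P hω : Set (twistedE6 K 2)))) →
      (Nat.card (twistedE6 K 2)).factorization p ≠ 1 := fun c e1 e2 h e => by
    obtain ⟨g, hg⟩ := exists_conj_le hP (S := zpowers (xx hω c.w1)) (by
      rw [e, pow_one, Nat.card_zpowers, orderOf_eq_prime (e1 ▸ h.1.pow.1) h.1.ne])
    exact key c e1 e2 h P hP1 hc g hg
  have hd : p ∣ 2 ^ 36 * 3 ^ 9 * 5 ^ 2 * 7 ^ 2 * 11 * 13 * 17 * 19 := by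
    obtain ⟨n, hn⟩ := IsPGroup.iff_card.1 hP
    exact (dvd_pow_self p (by rintro rfl; exact hP1 (card_eq_one.1 hn))).trans
      (hn ▸ (card_subgroup_dvd_card P).trans (cardT hK).dvd)
  have h7 : p = 7 ∨ p = 11 ∨ p = 13 ∨ p = 17 ∨ p = 19 := by
    simp only [hp.dvd_mul] at hd
    rcases hd with ((((((h | h) | h) | h) | h) | h) | h) | h <;>
      first | have := (Nat.prime_dvd_prime_iff_eq hp (by norm_num)).1 (hp.dvd_of_dvd_pow h) |
        have := (Nat.prime_dvd_prime_iff_eq hp (by norm_num)).1 h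
    all_goals omega
  rcases h7 with rfl | rfl | rfl | rfl | rfl
  rotate_left
  · exact key' c11 rfl rfl (Cert.sound2 hω hK ok11) (by rw [fac hK]; simp)
  · exact key' c13 rfl rfl (Cert.sound3 hω hK ok13) (by rw [fac hK]; simp)
  · exact key' c17 rfl rfl (Cert.sound3 hω hK ok17) (by rw [fac hK]; simp)
  · exact key' c19 rfl rfl (Cert.sound3 hω hK ok19) (by rw [fac hK]; simp)
  obtain ⟨h0, h1⟩ := Cert.sound3 hω hK ok49
  have ka := key c7a rfl rfl (Cert.sound2 hω hK ok7a)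
  have kb := key c7b rfl rfl (Cert.sound2 hω hK ok7b)
  have hab := h0.comm
  obtain ⟨ha, hb⟩ := h0.pow
  have hj := cj_ok
  simp only [band_eq_true] at hj
  change ¬IsCoatom (normalizer (SetLike.coe (closure {xx hω c7a.w1, xx hω c7b.w1}))) at h1
  change Commute (xx hω c7a.w1) (xx hω c7b.w1) at hab
  change xx hω c7a.w1 ^ 7 = 1 at ha
  change xx hω c7b.w1 ^ 7 = 1 at hb
  have hk : ∀ k < 7, ∀ P : Subgroup (twistedE6 K 2), P ≠ ⊥ → IsCoatom (normalizer (P : Set (twistedE6 K 2))) →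
      ¬P ≤ zpowers (xx hω c7a.w1 * xx hω c7b.w1 ^ k) := fun k hk P h1 h2 h3 => by
    have h4 := (pk_wm hω _).eq hω ((pk_xx hω _).lk.iter (pk_xx hω _) _) (allLt_sound hj.2.2 k hk)
    rw [evL_cons, evL_cons, evL_replicate] at h4
    have h5 : P.map (MulAut.conj (xx hω (nth (0, 0, 0) CJ k).1)).toMonoidHom ≤
        zpowers (xx hω (cond (Nat.beq (nth (0, 0, 0) CJ k).2.1 0) c7a.w1 c7b.w1)) := (map_mono h3).trans (by
      rw [MonoidHom.map_zpowers, zpowers_le]
      exact ⟨(nth (0, 0, 0) CJ k).2.2, (zpow_natCast _ _).trans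
        (eq_mul_inv_of_mul_eq (Subtype.ext (Units.ext h4.symm)))⟩)
    cases e : Nat.beq (nth (0, 0, 0) CJ k).2.1 0 <;> rw [e] at h5
    exacts [kb P h1 h2 _ h5, ka P h1 h2 _ h5]
  have hba : xx hω c7b.w1 ∉ zpowers (xx hω c7a.w1) := fun e => dv_ne hω hj.1 (by
    rw [dv_wv hω, evL_one]
    refine zpowers_le.2 (?_ : xx hω c7a.w1 ∈ MulAction.stabilizer _ (dv ω (nth 0 c7a.cs 17))) e
    have := dv_wv hω [c7a.w1] (nth 0 c7a.cs 17)
    rw [Nat.eq_of_beq_eq_true hj.2.1, evL_one] at this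
    exact this.symm)
  have ha1 : xx hω c7a.w1 ≠ 1 := (Cert.sound2 hω hK ok7a).1.ne
  generalize xx hω c7a.w1 = a at *
  generalize xx hω c7b.w1 = b at *
  have hS : ∀ z ∈ closure {a, b}, ∃ i j : ℕ, z = a ^ i * b ^ j := fun z hz => by
    induction hz using closure_induction with
    | mem x hx => rcases hx with rfl | rfl; exacts [⟨1, 0, by simp⟩, ⟨0, 1, by simp⟩]
    | one => exact ⟨0, 0, by simp⟩
    | mul x y _ _ hx hy =>
      obtain ⟨i, j, rfl⟩ := hx
      obtain ⟨k, l, rfl⟩ := hy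
      exact ⟨i + k, j + l, by rw [pow_add, pow_add, (hab.pow_pow k j).symm.mul_mul_mul_comm]⟩
    | inv x _ hx =>
      obtain ⟨i, j, rfl⟩ := hx
      refine ⟨6 * i, 6 * j, inv_eq_of_mul_eq_one_right ?_⟩
      rw [(hab.pow_pow _ j).symm.mul_mul_mul_comm, ← pow_add, ← pow_add, show i + 6 * i = 7 * i by omega,
        show j + 6 * j = 7 * j by omega, pow_mul, pow_mul, ha, hb]; simp
  have h7 : ∀ z ∈ closure {a, b}, z ^ 7 = 1 := fun z hz => by
    obtain ⟨i, j, rfl⟩ := hS z hz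
    rw [(hab.pow_pow i j).mul_pow, ← pow_mul, ← pow_mul, mul_comm i, mul_comm j, pow_mul, pow_mul, ha, hb]; simp
  have hf : (Nat.card (twistedE6 K 2)).factorization 7 = 2 := by rw [fac hK]; simp
  have hcard : ∀ {Q R : Subgroup (twistedE6 K 2)} {z}, IsPGroup 7 R → z ∈ Q → z ≠ 1 → z ^ 7 = 1 → Q ≤ R →
      ¬Q ≤ zpowers z → Nat.card Q = 7 ^ 2 := fun {Q R z} hR hz h1 h2 h3 h4 => by
    obtain ⟨n, hn⟩ := IsPGroup.iff_card.1 (hR.to_le h3)
    have h5 := (Nat.prime_seven.pow_dvd_iff_le_factorization Nat.card_pos.ne').1 (hn ▸ card_subgroup_dvd_card Q)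
    have h6 : Nat.card (zpowers z) < Nat.card Q := lt_of_not_ge fun e =>
      h4 (eq_of_le_of_card_ge (zpowers_le.2 hz) e).ge
    rw [Nat.card_zpowers, orderOf_eq_prime h2 h1, hn] at h6
    rw [hn, hf] at *
    interval_cases n <;> omega
  have hS7 : IsPGroup 7 (closure {a, b} : Subgroup _) := fun z => ⟨1, Subtype.ext (h7 _ z.2)⟩
  have hS49 := hcard hS7 (subset_closure (by simp)) ha1 ha le_rfl fun e => hba (e (subset_closure (by simp)))
  obtain ⟨g, hg⟩ := exists_conj_le hP (hS49.trans (by rw [hf]))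
  have h2 := coatom_conj g hc
  have h3 := hne g hP1
  generalize P.map (MulAut.conj g).toMonoidHom = Q at hg h2 h3
  obtain ⟨⟨z, hz⟩, hz1⟩ := ne_bot_iff_exists_ne_one.1 h3
  have hz2 : z ≠ 1 := fun e => hz1 (Subtype.ext e)
  by_cases h4 : Q ≤ zpowers z
  · obtain ⟨i, j, rfl⟩ := hS z (hg hz)
    by_cases hi : i % 7 = 0
    · refine kb Q h3 h2 1 ?_
      rw [pow_eq_pow_mod i ha, hi, pow_zero, one_mul] at h4
      rintro _ ⟨x, hx, rfl⟩
      simpa using (h4.trans (zpowers_le.2 (pow_mem (mem_zpowers b) j))) hx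
    · obtain ⟨k, hk1, hk2⟩ := (by decide : ∀ i < 7, ∀ j < 7, i ≠ 0 → ∃ k < 7, k * i % 7 = j) (i % 7)
        (Nat.mod_lt _ (by norm_num)) (j % 7) (Nat.mod_lt _ (by norm_num)) hi
      refine hk k hk1 Q h3 h2 (h4.trans (zpowers_le.2 ⟨(i % 7 : ℕ), (zpow_natCast _ _).trans ?_⟩))
      rw [(hab.pow_right k).mul_pow, ← pow_mul, pow_eq_pow_mod (k * _) hb, hk2, ← pow_eq_pow_mod _ ha,
        ← pow_eq_pow_mod _ hb]
  · exact h1 (eq_of_le_of_card_ge hg (hS49.trans (hcard hS7 hz hz2 (h7 _ (hg hz)) hg h4).symm).le ▸ h2)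

end CfsgLib.E62P
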